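import Mathlib.AlgebraicGeometry.Morphisms.FiniteType
import Mathlib.AlgebraicGeometry.PullbackCarrier
import Mathlib.CategoryTheory.Limits.Shapes.Pullback.Mono
import Mathlib.RingTheory.TensorProduct.Maps
import Mathlib.RingTheory.Adjoin.FG

/-!
# Reflecting specializations is detected on finitely generated subalgebras
-/

universe u

open CategoryTheory Limits AlgebraicGeometry TopologicalSpace
open scoped TensorProduct

namespace Groth.Agent.SpecLimit12

set_option backward.isDefEq.respectTransparency.types false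

variable {X Y : Scheme.{u}}

theorem exists_finiteType_mem_range (B C R : Type u) [CommRing B] [CommRing C] [CommRing R]
    [Algebra B C] [Algebra B R] (b : C ⊗[B] R) :
    ∃ A : Subalgebra B R, A.FG ∧ b ∈ Set.range (Algebra.TensorProduct.map (AlgHom.id B C) A.val) := by
  induction b with
  | zero => exact ⟨⊥, Subalgebra.fg_bot, 0, map_zero _⟩
  | tmul c r =>
    exact ⟨Algebra.adjoin B {r}, ⟨{r}, by simp⟩,
      c ⊗ₜ ⟨r, Algebra.self_mem_adjoin_singleton B r⟩, by simp⟩
  | add x y hx hy =>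
    obtain ⟨A, hA, a, rfl⟩ := hx
    obtain ⟨A', hA', a', rfl⟩ := hy
    refine ⟨A ⊔ A', hA.sup hA',
      Algebra.TensorProduct.map (AlgHom.id B C) (Subalgebra.inclusion le_sup_left) a +
        Algebra.TensorProduct.map (AlgHom.id B C) (Subalgebra.inclusion le_sup_right) a', ?_⟩
    rw [map_add, ← AlgHom.comp_apply, ← AlgHom.comp_apply, ← Algebra.TensorProduct.map_comp,
      ← Algebra.TensorProduct.map_comp]
    rfl

/-- The chart of a fibre product given by affine opens. -/
theorem exists_chart {B C R : Type u} [CommRing B] [CommRing C] [CommRing R]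
    [Algebra B C] [Algebra B R] (f : Y ⟶ X) (u : Spec (CommRingCat.of B) ⟶ X) [IsOpenImmersion u]
    (w : Spec (CommRingCat.of C) ⟶ Y) [IsOpenImmersion w]
    (hw : w ≫ f = Spec.map (CommRingCat.ofHom (algebraMap B C)) ≫ u)
    (g : Spec (CommRingCat.of R) ⟶ X) (hg : g = Spec.map (CommRingCat.ofHom (algebraMap B R)) ≫ u) :
    ∃ t : Spec (CommRingCat.of (C ⊗[B] R)) ⟶ pullback f g, IsOpenImmersion t ∧
      t ≫ pullback.fst f g = Spec.map (CommRingCat.ofHom
        (Algebra.TensorProduct.includeLeftRingHom : C →+* C ⊗[B] R)) ≫ w ∧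
      t ≫ pullback.snd f g = Spec.map (CommRingCat.ofHom
        (Algebra.TensorProduct.includeRight : R →ₐ[B] C ⊗[B] R).toRingHom) ∧
      Set.range t = pullback.fst f g ⁻¹' Set.range w := by
  subst hg
  have H := isPullback_SpecMap_of_isPushout _ _ _ _ (CommRingCat.isPushout_tensorProduct B C R)
  have H' : IsPullback
      (Spec.map (CommRingCat.ofHom (Algebra.TensorProduct.includeLeftRingHom : C →+* C ⊗[B] R)))
      (Spec.map (CommRingCat.ofHom (Algebra.TensorProduct.includeRight : R →ₐ[B] C ⊗[B] R).toRingHom))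
      (w ≫ f) (Spec.map (CommRingCat.ofHom (algebraMap B R)) ≫ u) := by
    rw [hw]
    exact IsPullback.of_isLimit (PullbackCone.isLimitOfCompMono _ _ u _ H.isLimit)
  let g := Spec.map (CommRingCat.ofHom (algebraMap B R)) ≫ u
  let m : pullback (w ≫ f) g ⟶ pullback f g :=
    pullback.map _ _ _ _ w (𝟙 _) (𝟙 _) (by simp) (by simp)
  have : IsOpenImmersion m := MorphismProperty.pullbackMap (P := @IsOpenImmersion)
    ‹IsOpenImmersion w› (inferInstance : IsOpenImmersion (𝟙 _)) rfl (Category.id_comp _).symm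
  refine ⟨H'.isoPullback.hom ≫ m, inferInstance, ?_, ?_, ?_⟩
  · rw [Category.assoc, show m ≫ pullback.fst f g = pullback.fst _ _ ≫ w from pullback.lift_fst ..,
      ← Category.assoc, H'.isoPullback_hom_fst]
  · rw [Category.assoc, show m ≫ pullback.snd f g = pullback.snd _ _ ≫ 𝟙 _ from pullback.lift_snd ..,
      Category.comp_id, H'.isoPullback_hom_snd]
  · rw [Scheme.Hom.comp_base, TopCat.coe_comp, Set.range_comp,
      Set.range_eq_univ.2 H'.isoPullback.hom.surjective, Set.image_univ]
    exact (Scheme.Pullback.range_map ..).trans (by simp [g])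

theorem specializes_of_forall_fg {B C R : Type u} [CommRing B] [CommRing C] [CommRing R]
    [Algebra B C] [Algebra B R] (f : Y ⟶ X) (u : Spec (CommRingCat.of B) ⟶ X) [IsOpenImmersion u]
    (w : Spec (CommRingCat.of C) ⟶ Y) [IsOpenImmersion w]
    (hw : w ≫ f = Spec.map (CommRingCat.ofHom (algebraMap B C)) ≫ u)
    (g : Spec (CommRingCat.of R) ⟶ X) (hg : g = Spec.map (CommRingCat.ofHom (algebraMap B R)) ≫ u)
    (h : ∀ (X' : Scheme.{u}) (g : X' ⟶ X) [LocallyOfFiniteType g] (y₀ y₁ : ↥(pullback f g)),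
      pullback.snd f g y₁ ⤳ pullback.snd f g y₀ → y₁ ⤳ y₀)
    (y₀ y₁ : ↥(pullback f g)) (hy₀ : pullback.fst f g y₀ ∈ Set.range w)
    (hy : pullback.snd f g y₁ ⤳ pullback.snd f g y₀) : y₁ ⤳ y₀ := by
  -- the image in every finite stage specializes
  have hstage : ∀ A : Subalgebra B R, A.FG →
      ∀ gA : Spec (CommRingCat.of A) ⟶ X,
      gA = Spec.map (CommRingCat.ofHom (algebraMap B A)) ≫ u →
      ∀ m : pullback f g ⟶ pullback f gA,
      m ≫ pullback.snd f gA = pullback.snd f g ≫ Spec.map (CommRingCat.ofHom A.val.toRingHom) →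
      m y₁ ⤳ m y₀ := by
    intro A hA gA hgA m hm
    have : LocallyOfFiniteType gA := by
      subst hgA
      have : LocallyOfFiniteType (Spec.map (CommRingCat.ofHom (algebraMap B A))) :=
        (HasRingHomProperty.Spec_iff (P := @LocallyOfFiniteType)).2
          (RingHom.finiteType_algebraMap.2 ⟨(Subalgebra.fg_top A).2 hA⟩)
      infer_instance
    refine h _ gA _ _ ?_
    rw [← Scheme.Hom.comp_apply, ← Scheme.Hom.comp_apply, hm, Scheme.Hom.comp_apply,
      Scheme.Hom.comp_apply]
    exact hy.map (Spec.map (CommRingCat.ofHom A.val.toRingHom)).continuous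
  have hval : ∀ A : Subalgebra B R,
      g = Spec.map (CommRingCat.ofHom A.val.toRingHom) ≫
        Spec.map (CommRingCat.ofHom (algebraMap B A)) ≫ u := fun A => by
    rw [hg, ← Spec.map_comp_assoc]
    rfl
  -- the map to a finite stage
  let m : ∀ A : Subalgebra B R, pullback f g ⟶
      pullback f (Spec.map (CommRingCat.ofHom (algebraMap B A)) ≫ u) := fun A =>
    pullback.map _ _ _ _ (𝟙 _) (Spec.map (CommRingCat.ofHom A.val.toRingHom)) (𝟙 _) (by simp)
      (by rw [Category.comp_id]; exact hval A)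
  have hm1 : ∀ A, m A ≫ pullback.fst _ _ = pullback.fst f g ≫ 𝟙 _ := fun A => pullback.lift_fst ..
  have hm2 : ∀ A, m A ≫ pullback.snd _ _ =
      pullback.snd f g ≫ Spec.map (CommRingCat.ofHom A.val.toRingHom) :=
    fun A => pullback.lift_snd ..
  have hfst : pullback.fst f g y₁ ∈ Set.range w := by
    have h1 := (hstage ⊥ Subalgebra.fg_bot _ rfl (m ⊥) (hm2 ⊥)).map
      (pullback.fst f (Spec.map (CommRingCat.ofHom (algebraMap B (⊥ : Subalgebra B R))) ≫ u)).continuous
    rw [← Scheme.Hom.comp_apply, ← Scheme.Hom.comp_apply, hm1, Category.comp_id] at h1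
    exact h1.mem_open w.isOpenEmbedding.isOpen_range hy₀
  obtain ⟨t, _, ht1, ht2, htr⟩ := exists_chart f u w hw g hg
  obtain ⟨z₀, rfl⟩ : y₀ ∈ Set.range t := htr ▸ hy₀
  obtain ⟨z₁, rfl⟩ : y₁ ∈ Set.range t := htr ▸ hfst
  refine Specializes.map ?_ t.continuous
  refine (PrimeSpectrum.le_iff_specializes _ _).1 (show z₁.asIdeal ≤ z₀.asIdeal from fun b hb => ?_)
  by_contra hb0
  obtain ⟨A, hA, a, rfl⟩ := exists_finiteType_mem_range B C R b
  obtain ⟨tA, _, hA1, hA2, -⟩ := exists_chart f u w hw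
    (Spec.map (CommRingCat.ofHom (algebraMap B A)) ≫ u) rfl
  let ψ : CommRingCat.of (C ⊗[B] A) ⟶ CommRingCat.of (C ⊗[B] R) :=
    CommRingCat.ofHom (Algebra.TensorProduct.map (AlgHom.id B C) A.val).toRingHom
  have hcomm : Spec.map ψ ≫ tA = t ≫ m A := by
    apply pullback.hom_ext
    · rw [Category.assoc, Category.assoc, hA1, hm1, Category.comp_id, ht1, ← Spec.map_comp_assoc]
      congr 2
    · rw [Category.assoc, Category.assoc, hA2, hm2, ← Category.assoc, ht2, ← Spec.map_comp,
        ← Spec.map_comp]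
      congr 1
  have h2 := hstage A hA _ rfl (m A) (hm2 A)
  rw [← Scheme.Hom.comp_apply, ← Scheme.Hom.comp_apply, ← hcomm, Scheme.Hom.comp_apply,
    Scheme.Hom.comp_apply, tA.isEmbedding.isInducing.specializes_iff] at h2
  exact hb0 ((PrimeSpectrum.le_iff_specializes _ _).2 h2 hb)

end Groth.Agent.SpecLimit12
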